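import Mathlib

/-!
# Graded projective modules over a polynomial ring are graded free locally on the base
-/

set_option autoImplicit false
set_option linter.all false
set_option maxHeartbeats 800000
set_option backward.isDefEq.respectTransparency false

universe u v

open MvPolynomial TensorProduct DirectSum

namespace GrothLib.GrProj2

variable {R : Type u} [CommRing R] {n : ℕ}


/-- The multidegree. -/
def wt (n : ℕ) : Fin n → (Fin n → ℤ) := fun i => Pi.single i 1

theorem weight_wt_apply (s : Fin n →₀ ℕ) (i : Fin n) : Finsupp.weight (wt n) s i = (s i : ℤ) := by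
  classical
  rw [Finsupp.weight_apply, Finsupp.sum_fintype _ _ (by simp), Finset.sum_apply]
  simp [wt, Pi.single_apply]

theorem sum_weight_nonneg (s : Fin n →₀ ℕ) : 0 ≤ ∑ i, Finsupp.weight (wt n) s i :=
  Finset.sum_nonneg fun i _ => by rw [weight_wt_apply]; positivity

theorem weight_injective {s t : Fin n →₀ ℕ} (h : Finsupp.weight (wt n) s = Finsupp.weight (wt n) t) : s = t :=
  Finsupp.ext fun i => by
    have := congrFun h i
    rw [weight_wt_apply, weight_wt_apply] at this
    exact_mod_cast this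

theorem exists_repr_of_constantCoeff (a : (MvPolynomial (Fin n) R)) (ha : constantCoeff a = 0) :
    a ∈ Ideal.span (Set.range (X : Fin n → (MvPolynomial (Fin n) R))) := by
  rw [← Set.image_univ, mem_ideal_span_X_image]
  intro m hm
  by_contra h
  push Not at h
  have : m = 0 := Finsupp.ext fun i => h i (Set.mem_univ i)
  subst this
  exact (mem_support_iff.1 hm) ha

/-- The evaluation at the origin. -/
@[reducible] noncomputable def ev0 (R : Type u) [CommRing R] (n : ℕ) : Algebra (MvPolynomial (Fin n) R) R :=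
  (constantCoeff : MvPolynomial (Fin n) R →+* R).toAlgebra

section

variable {P : Type v} [AddCommGroup P] [Module (MvPolynomial (Fin n) R) P] [Module R P] [IsScalarTower R (MvPolynomial (Fin n) R) P]
  (ℳ : (Fin n → ℤ) → Submodule R P) [Decomposition ℳ]
  [hgr : SetLike.GradedSMul (weightedHomogeneousSubmodule R (wt n)) ℳ]

/-- The component of a given degree. -/
noncomputable def cmp (d : Fin n → ℤ) : P →ₗ[R] P :=
  (ℳ d).subtype ∘ₗ DirectSum.component R (Fin n → ℤ) (fun i => ℳ i) d ∘ₗ (decomposeLinearEquiv ℳ).toLinearMap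

theorem cmp_mem (d : Fin n → ℤ) (q : P) : cmp ℳ d q ∈ ℳ d := Subtype.coe_prop _

theorem cmp_of_mem {d : Fin n → ℤ} {q : P} (h : q ∈ ℳ d) : cmp ℳ d q = q := decompose_of_mem_same ℳ h

theorem cmp_of_ne {d e : Fin n → ℤ} {q : P} (h : q ∈ ℳ e) (hne : e ≠ d) : cmp ℳ d q = 0 :=
  decompose_of_mem_ne ℳ h hne

theorem cmp_monomial_smul (d : Fin n → ℤ) (s : Fin n →₀ ℕ) (a : R) (q : P) :
    cmp ℳ d ((monomial s a : (MvPolynomial (Fin n) R)) • q) = (monomial s a : (MvPolynomial (Fin n) R)) • cmp ℳ (d - Finsupp.weight (wt n) s) q := by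
  induction q using Decomposition.inductionOn ℳ with
  | zero => simp
  | @homogeneous e q =>
    have hm : (monomial s a : (MvPolynomial (Fin n) R)) • (q : P) ∈ ℳ (Finsupp.weight (wt n) s + e) :=
      hgr.smul_mem (isWeightedHomogeneous_monomial _ _ _ rfl) q.2
    by_cases h : Finsupp.weight (wt n) s + e = d
    · subst h
      rw [cmp_of_mem ℳ hm, show Finsupp.weight (wt n) s + e - Finsupp.weight (wt n) s = e by abel, cmp_of_mem ℳ q.2]
    · rw [cmp_of_ne ℳ hm h, cmp_of_ne ℳ q.2 (fun h' => h (by rw [h']; abel)), smul_zero]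
  | add q q' h h' => rw [smul_add, map_add, map_add, h, h', smul_add]

theorem cmp_C_smul (d : Fin n → ℤ) (a : R) (q : P) : cmp ℳ d ((C a : (MvPolynomial (Fin n) R)) • q) = (C a : (MvPolynomial (Fin n) R)) • cmp ℳ d q := by
  have := cmp_monomial_smul ℳ d 0 a q
  rwa [map_zero, sub_zero] at this

theorem cmp_X_smul (d : Fin n → ℤ) (j : Fin n) (q : P) :
    cmp ℳ d ((X j : (MvPolynomial (Fin n) R)) • q) = (X j : (MvPolynomial (Fin n) R)) • cmp ℳ (d - Finsupp.weight (wt n) (Finsupp.single j 1)) q :=
  cmp_monomial_smul ℳ d _ 1 q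

theorem cmp_smul_of_mem (d e : Fin n → ℤ) (a : (MvPolynomial (Fin n) R)) {q : P} (hq : q ∈ ℳ e) :
    cmp ℳ d (a • q) = weightedHomogeneousComponent (wt n) (d - e) a • q := by
  classical
  induction a using MvPolynomial.induction_on' with
  | add a b ha hb => rw [add_smul, map_add, map_add, ha, hb, add_smul]
  | monomial s r =>
    rw [cmp_monomial_smul]
    have hc : weightedHomogeneousComponent (wt n) (d - e) (monomial s r : (MvPolynomial (Fin n) R)) =
        if Finsupp.weight (wt n) s = d - e then monomial s r else 0 := by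
      ext t
      rw [coeff_weightedHomogeneousComponent]
      rcases eq_or_ne s t with rfl | hst
      · split_ifs <;> simp [coeff_monomial]
      · split_ifs <;> simp [coeff_monomial, hst]
    rw [hc]
    split_ifs with h
    · rw [h, show d - (d - e) = e by abel, cmp_of_mem ℳ hq]
    · rw [cmp_of_ne ℳ hq (fun h' => h (by rw [h']; abel)), smul_zero, zero_smul]

theorem eq_zero_of_sum_lt {d e : Fin n → ℤ} (a : (MvPolynomial (Fin n) R)) (h : ∑ i, d i < ∑ i, e i) :
    weightedHomogeneousComponent (wt n) (d - e) a = 0 := by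
  classical
  ext t
  rw [coeff_weightedHomogeneousComponent, coeff_zero, if_neg]
  intro ht
  have := sum_weight_nonneg t
  simp only [ht, Pi.sub_apply, Finset.sum_sub_distrib] at this
  omega

/-- Finite modules are generated by homogeneous elements. -/
theorem exists_homogeneous_gens [Module.Finite (MvPolynomial (Fin n) R) P] :
    ∃ (m : ℕ) (d : Fin m → (Fin n → ℤ)) (g : Fin m → P), (∀ i, g i ∈ ℳ (d i)) ∧
      Submodule.span (MvPolynomial (Fin n) R) (Set.range g) = ⊤ := by
  classical
  obtain ⟨S, hS⟩ := Module.Finite.fg_top (R := (MvPolynomial (Fin n) R)) (M := P)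
  let T : Finset (P × (Fin n → ℤ)) :=
    S.biUnion fun q => (DFinsupp.support (decompose ℳ q)).image fun d => (((decompose ℳ q) d : P), d)
  let e : Fin T.card ≃ T := T.equivFin.symm
  refine ⟨T.card, fun i => (e i).1.2, fun i => (e i).1.1, fun i => ?_, ?_⟩
  · obtain ⟨q, -, hq⟩ := Finset.mem_biUnion.1 (e i).2
    obtain ⟨d, -, hd⟩ := Finset.mem_image.1 hq
    show (e i).1.1 ∈ ℳ (e i).1.2
    rw [← hd]
    exact Subtype.coe_prop _
  · rw [eq_top_iff, ← hS, Submodule.span_le]
    intro q hq
    rw [SetLike.mem_coe, ← DirectSum.sum_support_decompose ℳ q]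
    refine sum_mem fun d hd => Submodule.subset_span ⟨e.symm ⟨(((decompose ℳ q) d : P), d), ?_⟩, ?_⟩
    · exact Finset.mem_biUnion.2 ⟨q, hq, Finset.mem_image_of_mem _ hd⟩
    · simp

/-- Degrees of a finite module are bounded below. -/
theorem exists_bound [Module.Finite (MvPolynomial (Fin n) R) P] :
    ∃ L : ℤ, ∀ d : Fin n → ℤ, ∑ i, d i < L → ∀ q ∈ ℳ d, q = 0 := by
  classical
  obtain ⟨m, dg, g, hg, hspan⟩ := exists_homogeneous_gens ℳ
  refine ⟨-∑ j, |∑ i, dg j i|, fun d hd q hq => ?_⟩
  rw [← cmp_of_mem ℳ hq]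
  obtain ⟨c, hc⟩ := (Submodule.mem_span_range_iff_exists_fun (MvPolynomial (Fin n) R)).1 (hspan ▸ trivial : q ∈ Submodule.span (MvPolynomial (Fin n) R) (Set.range g))
  rw [← hc, map_sum]
  refine Finset.sum_eq_zero fun j _ => ?_
  rw [cmp_smul_of_mem ℳ d (dg j) _ (hg j), eq_zero_of_sum_lt, zero_smul]
  have h1 := Finset.single_le_sum (f := fun j => |∑ i, dg j i|) (fun j _ => abs_nonneg _) (Finset.mem_univ j)
  have h2 := neg_abs_le (∑ i, dg j i)
  omega

end

/-- (MvPolynomial (Fin n) R) finite projective module has, near a prime, a basis taken from a given spanning family. -/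
theorem exists_basis_near {Q : Type v} [AddCommGroup Q] [Module R Q] [Module.Finite R Q] [Module.Projective R Q]
    (p : PrimeSpectrum R) {m₀ : ℕ} (g : Fin m₀ → Q) (hg : Submodule.span R (Set.range g) = ⊤) :
    ∃ r : R, r ∉ p.asIdeal ∧ ∃ (m : ℕ) (a : Fin m → Fin m₀),
      (∀ q : Q, ∃ N : ℕ, r ^ N • q ∈ Submodule.span R (Set.range (g ∘ a))) ∧
      (∀ c : Fin m → R, ∑ i, c i • g (a i) = 0 → ∃ N : ℕ, ∀ i, r ^ N * c i = 0) := by
  classical
  let S := p.asIdeal.primeCompl
  let Rp := Localization S
  let Qp := LocalizedModule S Q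
  let φ := LocalizedModule.mkLinearMap S Q
  haveI : Module.Finite Rp Qp := Module.Finite.of_isLocalizedModule S φ
  haveI : Module.FinitePresentation Rp Qp := Module.finitePresentation_of_projective Rp Qp
  haveI : IsLocalRing Rp := Localization.AtPrime.isLocalRing p.asIdeal
  have hspan : Submodule.span Rp (Set.range fun i : ULift.{u} (Fin m₀) => φ (g i.down)) = ⊤ := by
    refine eq_top_iff.2 fun z _ => ?_
    obtain ⟨⟨q, s⟩, hz⟩ := IsLocalizedModule.surj S φ z
    have hq : φ q ∈ Submodule.span Rp (Set.range fun i : ULift.{u} (Fin m₀) => φ (g i.down)) := by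
      have : q ∈ Submodule.span R (Set.range g) := hg ▸ trivial
      clear hz
      induction this using Submodule.span_induction with
      | mem x hx => obtain ⟨i, rfl⟩ := hx; exact Submodule.subset_span ⟨⟨i⟩, rfl⟩
      | zero => rw [map_zero]; exact zero_mem _
      | add x y _ _ hx hy => rw [map_add]; exact add_mem hx hy
      | smul c x _ hx => rw [map_smul, ← algebraMap_smul Rp c (φ x)]; exact Submodule.smul_mem _ _ hx
    obtain ⟨u, hu⟩ := IsLocalization.map_units Rp s
    have hz' : (↑u : Rp) • z = φ q := by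
      rw [hu, algebraMap_smul]; exact hz
    rw [← one_smul Rp z, ← u.inv_mul, mul_smul, hz']
    exact Submodule.smul_mem _ _ hq
  obtain ⟨κ, a₀, b, hb⟩ := Module.exists_basis_of_span_of_flat _ hspan
  haveI : Finite κ := Module.Finite.finite_basis b
  haveI := Fintype.ofFinite κ
  let e := (Fintype.equivFin κ).symm
  let a : Fin (Fintype.card κ) → Fin m₀ := fun i => (a₀ (e i)).down
  let b' := b.reindex e.symm
  have hb' : ∀ i, b' i = φ (g (a i)) := fun i => by
    rw [Module.Basis.reindex_apply]; exact hb _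
  -- surjectivity
  have hgen : ∀ i, ∃ s ∈ S, s • g i ∈ Submodule.span R (Set.range (g ∘ a)) := by
    intro i
    have h1 := b'.sum_repr (φ (g i))
    obtain ⟨s, hs⟩ := IsLocalization.exist_integer_multiples S Finset.univ (fun j => b'.repr (φ (g i)) j)
    choose c hc using fun j => hs j (Finset.mem_univ j)
    have h2 : φ ((s : R) • g i) = φ (∑ j, c j • g (a j)) := by
      rw [map_smul, map_sum, ← h1, Finset.smul_sum]
      refine Finset.sum_congr rfl fun j _ => ?_
      rw [map_smul, hb', ← algebraMap_smul Rp (c j), hc j, smul_assoc]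
    obtain ⟨t, ht⟩ := IsLocalizedModule.exists_of_eq (S := S) h2
    refine ⟨(t : R) * s, mul_mem t.2 s.2, ?_⟩
    rw [mul_smul]
    have : (t : R) • ((s : R) • g i) = (t : R) • ∑ j, c j • g (a j) := ht
    rw [this]
    exact Submodule.smul_mem _ _ (sum_mem fun j _ => Submodule.smul_mem _ _ (Submodule.subset_span ⟨j, rfl⟩))
  choose sg hsg hsgm using hgen
  let r₀ := ∏ i, sg i
  have hr₀ : r₀ ∈ S := prod_mem fun i _ => hsg i
  let ψ : (Fin (Fintype.card κ) → R) →ₗ[R] Q := Fintype.linearCombination R (g ∘ a)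
  have hψ : ∀ q : Q, r₀ • q ∈ LinearMap.range ψ := by
    intro q
    rw [Fintype.range_linearCombination]
    have : q ∈ Submodule.span R (Set.range g) := hg ▸ trivial
    induction this using Submodule.span_induction with
    | mem x hx =>
      obtain ⟨i, rfl⟩ := hx
      rw [show r₀ = (∏ j ∈ Finset.univ.erase i, sg j) * sg i from (Finset.prod_erase_mul _ _ (Finset.mem_univ i)).symm,
        mul_smul]
      exact Submodule.smul_mem _ _ (hsgm i)
    | zero => rw [smul_zero]; exact zero_mem _
    | add x y _ _ hx hy => rw [smul_add]; exact add_mem hx hy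
    | smul c x _ hx => rw [smul_comm]; exact Submodule.smul_mem _ _ hx
  -- a partial section
  obtain ⟨σ, hσ⟩ := Module.projective_lifting_property ψ.rangeRestrict
    ((r₀ • (LinearMap.id : Q →ₗ[R] Q)).codRestrict _ hψ) ψ.surjective_rangeRestrict
  have hσ' : ∀ q, ψ (σ q) = r₀ • q := fun q => congrArg Subtype.val (LinearMap.congr_fun hσ q)
  let z : Fin (Fintype.card κ) → (Fin (Fintype.card κ) → R) := fun j => r₀ • Pi.single j 1 - σ (ψ (Pi.single j 1))
  have hz : ∀ j, ψ (z j) = 0 := fun j => by simp only [z, map_sub, map_smul, hσ', sub_self]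
  have hkill : ∀ j, ∃ t ∈ S, t • z j = 0 := by
    intro j
    have h1 : ∑ i, algebraMap R Rp (z j i) • b' i = 0 := by
      have := congrArg φ (hz j)
      rw [Fintype.linearCombination_apply, map_sum, map_zero] at this
      rw [← this]
      refine Finset.sum_congr rfl fun i _ => ?_
      rw [map_smul, hb', algebraMap_smul]
      rfl
    have h2 := Fintype.linearIndependent_iff.1 b'.linearIndependent _ h1
    choose t ht using fun i => (IsLocalization.map_eq_zero_iff S Rp _).1 (h2 i)
    refine ⟨∏ i, (t i : R), prod_mem fun i _ => (t i).2, funext fun i => ?_⟩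
    rw [Pi.smul_apply, smul_eq_mul, Pi.zero_apply,
      show (∏ k, (t k : R)) = (∏ k ∈ Finset.univ.erase i, (t k : R)) * t i from
        (Finset.prod_erase_mul _ _ (Finset.mem_univ i)).symm, mul_assoc, ht i, mul_zero]
  choose t ht htz using hkill
  refine ⟨r₀ * ∏ j, t j, (mul_mem hr₀ (prod_mem fun j _ => ht j) : r₀ * ∏ j, t j ∈ S), Fintype.card κ, a,
    fun q => ⟨1, ?_⟩, fun c hc => ⟨1, fun i => ?_⟩⟩
  · rw [pow_one, mul_comm, mul_smul, ← Fintype.range_linearCombination]
    exact Submodule.smul_mem _ _ (hψ q)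
  · have hψc : ψ c = 0 := by rw [Fintype.linearCombination_apply]; exact hc
    let L : (Fin (Fintype.card κ) → R) →ₗ[R] (Fin (Fintype.card κ) → R) :=
      r₀ • LinearMap.id - σ ∘ₗ ψ
    have h1 : (∏ j, t j) • L = 0 := by
      refine LinearMap.pi_ext' fun j => LinearMap.ext_ring ?_
      change (∏ k, t k) • z j = 0
      rw [show (∏ k, t k) = (∏ k ∈ Finset.univ.erase j, t k) * t j from
        (Finset.prod_erase_mul _ _ (Finset.mem_univ j)).symm, mul_smul, htz j, smul_zero]
    have h2 := congrFun (LinearMap.congr_fun h1 c) i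
    simp only [LinearMap.smul_apply, L, LinearMap.sub_apply, LinearMap.comp_apply, hψc, map_zero, sub_zero,
      LinearMap.id_apply, Pi.smul_apply, smul_eq_mul, LinearMap.zero_apply, Pi.zero_apply] at h2
    rw [pow_one, mul_comm r₀, mul_assoc]
    exact h2

section

variable {P : Type v} [AddCommGroup P] [Module (MvPolynomial (Fin n) R) P] [Module R P] [IsScalarTower R (MvPolynomial (Fin n) R) P]
  (ℳ : (Fin n → ℤ) → Submodule R P) [Decomposition ℳ]
  [hgr : SetLike.GradedSMul (weightedHomogeneousSubmodule R (wt n)) ℳ]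

theorem mem_sum_X_smul {M : Type*} [AddCommGroup M] [Module (MvPolynomial (Fin n) R) M] {q : M}
    (h : q ∈ Ideal.span (Set.range (X : Fin n → (MvPolynomial (Fin n) R))) • (⊤ : Submodule (MvPolynomial (Fin n) R) M)) :
    ∃ b : Fin n → M, q = ∑ j, (X j : (MvPolynomial (Fin n) R)) • b j := by
  classical
  induction h using Submodule.smul_induction_on' with
  | smul a ha x _ =>
    obtain ⟨c, hc⟩ := (Submodule.mem_span_range_iff_exists_fun (MvPolynomial (Fin n) R)).1 ha
    refine ⟨fun j => c j • x, ?_⟩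
    rw [← hc, Finset.sum_smul]
    exact Finset.sum_congr rfl fun j _ => by rw [smul_eq_mul, mul_comm, mul_smul]
  | add x _ y _ hx hy =>
    obtain ⟨b, rfl⟩ := hx
    obtain ⟨b', rfl⟩ := hy
    exact ⟨b + b', by simp [Finset.sum_add_distrib, smul_add]⟩

theorem sum_sub_single (d : Fin n → ℤ) (j : Fin n) :
    ∑ i, (d - Finsupp.weight (wt n) (Finsupp.single j 1)) i = (∑ i, d i) - 1 := by
  classical
  simp only [Pi.sub_apply, Finset.sum_sub_distrib, weight_wt_apply]
  simp [Finsupp.single_apply]

theorem exists_red [Module.Finite (MvPolynomial (Fin n) R) P] [Module.Projective (MvPolynomial (Fin n) R) P]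
    (p : PrimeSpectrum R) {m₀ : ℕ} (g : Fin m₀ → P)
    (hgspan : Submodule.span (MvPolynomial (Fin n) R) (Set.range g) = ⊤) :
    ∃ r : R, r ∉ p.asIdeal ∧ ∃ (m : ℕ) (a : Fin m → Fin m₀),
      (∀ q : P, ∃ (N : ℕ) (b : Fin m → R), (C r : (MvPolynomial (Fin n) R)) ^ N • q -
        ∑ i, (C (b i) : (MvPolynomial (Fin n) R)) • g (a i) ∈
          Ideal.span (Set.range (X : Fin n → (MvPolynomial (Fin n) R))) • (⊤ : Submodule (MvPolynomial (Fin n) R) P)) ∧
      (∀ k : Fin m → (MvPolynomial (Fin n) R), ∑ i, k i • g (a i) = 0 → ∃ N : ℕ, ∀ i, r ^ N * constantCoeff (k i) = 0) := by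
  classical
  letI := ev0 R n
  haveI : IsScalarTower R (MvPolynomial (Fin n) R) R := IsScalarTower.of_algebraMap_eq fun c => (constantCoeff_C (Fin n) c).symm
  let ρ : P → R ⊗[(MvPolynomial (Fin n) R)] P := fun q => (1 : R) ⊗ₜ[(MvPolynomial (Fin n) R)] q
  have hρ : ∀ (a : (MvPolynomial (Fin n) R)) (q : P), ρ (a • q) = constantCoeff a • ρ q := fun a q => by
    show (1 : R) ⊗ₜ[(MvPolynomial (Fin n) R)] (a • q) = _
    rw [TensorProduct.tmul_smul, TensorProduct.smul_tmul', TensorProduct.smul_tmul']
    congr 1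
  have hspanQ : Submodule.span R (Set.range fun i => ρ (g i)) = ⊤ := by
    refine eq_top_iff.2 fun z _ => ?_
    induction z using TensorProduct.induction_on with
    | zero => exact zero_mem _
    | add x y hx hy => exact add_mem (hx trivial) (hy trivial)
    | tmul c q =>
      obtain ⟨b, hb⟩ := (Submodule.mem_span_range_iff_exists_fun (MvPolynomial (Fin n) R)).1 (hgspan ▸ trivial : q ∈ Submodule.span (MvPolynomial (Fin n) R) (Set.range g))
      rw [← hb, show c ⊗ₜ[(MvPolynomial (Fin n) R)] (∑ i, b i • g i) = c • ρ (∑ i, b i • g i) by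
        simp only [ρ, TensorProduct.smul_tmul', smul_eq_mul, mul_one]]
      refine Submodule.smul_mem _ _ ?_
      simp only [ρ, TensorProduct.tmul_sum]
      refine sum_mem fun i _ => ?_
      have := hρ (b i) (g i)
      simp only [ρ] at this
      rw [this]
      exact Submodule.smul_mem _ _ (Submodule.subset_span ⟨i, rfl⟩)
  have hker : ∀ q : P, ρ q = 0 → q ∈ Ideal.span (Set.range (X : Fin n → (MvPolynomial (Fin n) R))) • (⊤ : Submodule (MvPolynomial (Fin n) R) P) := by
    intro q hq
    let J := Ideal.span (Set.range (X : Fin n → (MvPolynomial (Fin n) R)))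
    have hJ : ∀ (a : (MvPolynomial (Fin n) R)) (x : P ⧸ J • (⊤ : Submodule (MvPolynomial (Fin n) R) P)), a • x = (C (constantCoeff a) : (MvPolynomial (Fin n) R)) • x := by
      intro a x
      obtain ⟨y, rfl⟩ := Submodule.mkQ_surjective _ x
      rw [← map_smul, ← map_smul, Submodule.mkQ_apply, Submodule.mkQ_apply, Submodule.Quotient.eq, ← sub_smul]
      exact Submodule.smul_mem_smul (exists_repr_of_constantCoeff _ (by simp)) trivial
    let θ : R →ₗ[(MvPolynomial (Fin n) R)] (P →ₗ[(MvPolynomial (Fin n) R)] P ⧸ J • (⊤ : Submodule (MvPolynomial (Fin n) R) P)) :=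
      { toFun := fun c => (C c : (MvPolynomial (Fin n) R)) • (J • (⊤ : Submodule (MvPolynomial (Fin n) R) P)).mkQ
        map_add' := fun c c' => by rw [map_add, add_smul]
        map_smul' := fun a c => by
          refine LinearMap.ext fun y => ?_
          simp only [RingHom.id_apply, LinearMap.smul_apply]
          rw [hJ a, ← mul_smul, ← map_mul]
          rfl }
    have h1 := congrArg (TensorProduct.lift θ) hq
    simp only [ρ, TensorProduct.lift.tmul, map_zero] at h1
    simp only [θ, LinearMap.coe_mk, AddHom.coe_mk, map_one, one_smul, Submodule.mkQ_apply] at h1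
    exact (Submodule.Quotient.mk_eq_zero _).1 h1
  obtain ⟨r, hr, m, a, hsur, hinj⟩ := exists_basis_near p (fun i => ρ (g i)) hspanQ
  refine ⟨r, hr, m, a, fun q => ?_, fun k hk => ?_⟩
  · obtain ⟨N, hN⟩ := hsur (ρ q)
    obtain ⟨b, hb⟩ := (Submodule.mem_span_range_iff_exists_fun R).1 hN
    refine ⟨N, b, hker _ ?_⟩
    show (1 : R) ⊗ₜ[(MvPolynomial (Fin n) R)] _ = 0
    rw [TensorProduct.tmul_sub, TensorProduct.tmul_sum, ← map_pow C r N]
    have e1 := hρ (C (r ^ N)) q
    simp only [ρ, constantCoeff_C] at e1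
    rw [e1, sub_eq_zero]
    refine hb.symm.trans (Finset.sum_congr rfl fun i _ => ?_)
    have e2 := hρ (C (b i)) (g (a i))
    simp only [ρ, constantCoeff_C] at e2
    exact e2.symm
  · refine hinj _ ?_
    have := congrArg ρ hk
    simp only [ρ, TensorProduct.tmul_sum, TensorProduct.tmul_zero] at this
    rw [← this]
    exact Finset.sum_congr rfl fun i _ => (hρ (k i) (g (a i))).symm

theorem exists_homogeneous_basis [Module.Finite (MvPolynomial (Fin n) R) P] [Module.Projective (MvPolynomial (Fin n) R) P] (p : PrimeSpectrum R) :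
    ∃ r : R, r ∉ p.asIdeal ∧ ∃ (m : ℕ) (d : Fin m → (Fin n → ℤ)) (f : Fin m → P), (∀ i, f i ∈ ℳ (d i)) ∧
      (∀ q : P, ∃ (N : ℕ) (c : Fin m → (MvPolynomial (Fin n) R)), (C r : (MvPolynomial (Fin n) R)) ^ N • q = ∑ i, c i • f i) ∧
      (∀ c : Fin m → (MvPolynomial (Fin n) R), ∑ i, c i • f i = 0 → ∃ N : ℕ, ∀ i, (C r : (MvPolynomial (Fin n) R)) ^ N * c i = 0) := by
  classical
  obtain ⟨m₀, dg, g, hg, hgspan⟩ := exists_homogeneous_gens ℳ
  obtain ⟨r, hr, m, a, hsur, hinj⟩ := exists_red p g hgspan
  let f : Fin m → P := fun i => g (a i)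
  let d : Fin m → (Fin n → ℤ) := fun i => dg (a i)
  have hf : ∀ i, f i ∈ ℳ (d i) := fun i => hg _
  obtain ⟨L, hL⟩ := exists_bound ℳ
  -- surjectivity
  let M := Submodule.span (MvPolynomial (Fin n) R) (Set.range f)
  have hsurj : ∀ (t : ℕ) (e : Fin n → ℤ), ∑ i, e i < L + t → ∀ q ∈ ℳ e, ∃ N : ℕ, (C r : (MvPolynomial (Fin n) R)) ^ N • q ∈ M := by
    intro t
    induction t with
    | zero => intro e he q hq; exact ⟨0, by rw [hL e (by simpa using he) q hq, smul_zero]; exact zero_mem _⟩
    | succ t ih =>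
      intro e he q hq
      obtain ⟨N, b, hb⟩ := hsur q
      rw [← map_pow C r N] at hb
      obtain ⟨y, hy⟩ := mem_sum_X_smul hb
      have h2 := congrArg (cmp ℳ e) hy
      rw [map_sub, map_sum, map_sum, cmp_C_smul, cmp_of_mem ℳ hq] at h2
      simp only [cmp_C_smul, cmp_X_smul] at h2
      have hsub : ∀ j, ∃ N' : ℕ, (C r : (MvPolynomial (Fin n) R)) ^ N' • cmp ℳ (e - Finsupp.weight (wt n) (Finsupp.single j 1)) (y j) ∈ M :=
        fun j => ih _ (by rw [sum_sub_single]; push_cast at he ⊢; omega) _ (cmp_mem ℳ _ _)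
      choose N' hN' using hsub
      refine ⟨(∑ j, N' j) + N, ?_⟩
      rw [pow_add, mul_smul, ← map_pow C r N, sub_eq_iff_eq_add.1 h2, smul_add, Finset.smul_sum, Finset.smul_sum]
      refine add_mem (sum_mem fun j _ => ?_) (sum_mem fun i _ => ?_)
      · obtain ⟨k, hk⟩ := Nat.le.dest (Finset.single_le_sum (fun j _ => Nat.zero_le (N' j)) (Finset.mem_univ j))
        rw [← hk, add_comm, pow_add, mul_smul, smul_comm ((C r : (MvPolynomial (Fin n) R)) ^ N' j) (X j : (MvPolynomial (Fin n) R))]
        exact Submodule.smul_mem _ _ (Submodule.smul_mem _ _ (hN' j))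
      · refine Submodule.smul_mem _ _ (Submodule.smul_mem _ _ ?_)
        by_cases h : d i = e
        · rw [← h, cmp_of_mem ℳ (hf i)]; exact Submodule.subset_span ⟨i, rfl⟩
        · rw [cmp_of_ne ℳ (hf i) h]; exact zero_mem _
  have hsurj' : ∀ q : P, ∃ N : ℕ, (C r : (MvPolynomial (Fin n) R)) ^ N • q ∈ M := by
    intro q
    induction q using Decomposition.inductionOn ℳ with
    | zero => exact ⟨0, by rw [smul_zero]; exact zero_mem _⟩
    | @homogeneous e q => exact hsurj ((∑ i, e i) - L + 1).toNat e (by omega) _ q.2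
    | add q q' h h' =>
      obtain ⟨N, hN⟩ := h
      obtain ⟨N', hN'⟩ := h'
      refine ⟨N + N', ?_⟩
      rw [smul_add]
      refine add_mem ?_ ?_
      · rw [add_comm, pow_add, mul_smul]; exact Submodule.smul_mem _ _ hN
      · rw [pow_add, mul_smul]; exact Submodule.smul_mem _ _ hN'
  -- a uniform exponent and a partial section
  choose Ng hNg using fun i => hsurj' (g i)
  let N₀ := ∑ i, Ng i
  have hall : ∀ q : P, (C r : (MvPolynomial (Fin n) R)) ^ N₀ • q ∈ LinearMap.range (Fintype.linearCombination (MvPolynomial (Fin n) R) f) := by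
    intro q
    rw [Fintype.range_linearCombination]
    have : q ∈ Submodule.span (MvPolynomial (Fin n) R) (Set.range g) := hgspan ▸ trivial
    induction this using Submodule.span_induction with
    | mem x hx =>
      obtain ⟨i, rfl⟩ := hx
      obtain ⟨k, hk⟩ := Nat.le.dest (Finset.single_le_sum (fun j _ => Nat.zero_le (Ng j)) (Finset.mem_univ i))
      rw [show N₀ = Ng i + k from hk.symm, add_comm, pow_add, mul_smul]
      exact Submodule.smul_mem _ _ (hNg i)
    | zero => rw [smul_zero]; exact zero_mem _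
    | add x y _ _ hx hy => rw [smul_add]; exact add_mem hx hy
    | smul c x _ hx => rw [smul_comm]; exact Submodule.smul_mem _ _ hx
  let G := Fintype.linearCombination (MvPolynomial (Fin n) R) f
  obtain ⟨σ, hσ⟩ := Module.projective_lifting_property G.rangeRestrict
    (((C r : (MvPolynomial (Fin n) R)) ^ N₀ • (LinearMap.id : P →ₗ[(MvPolynomial (Fin n) R)] P)).codRestrict _ hall) G.surjective_rangeRestrict
  have hσ' : ∀ q, G (σ q) = (C r : (MvPolynomial (Fin n) R)) ^ N₀ • q := fun q => congrArg Subtype.val (LinearMap.congr_fun hσ q)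
  let π : (Fin m → (MvPolynomial (Fin n) R)) →ₗ[(MvPolynomial (Fin n) R)] (Fin m → (MvPolynomial (Fin n) R)) := (C r : (MvPolynomial (Fin n) R)) ^ N₀ • LinearMap.id - σ ∘ₗ G
  have hπG : ∀ c, G (π c) = 0 := fun c => by
    simp only [π, LinearMap.sub_apply, LinearMap.smul_apply, LinearMap.id_apply, LinearMap.comp_apply, map_sub, hσ']
    rw [G.map_smul, sub_self]
  let vc : (Fin n → ℤ) → (Fin m → (MvPolynomial (Fin n) R)) → (Fin m → (MvPolynomial (Fin n) R)) := fun e c i => weightedHomogeneousComponent (wt n) (e - d i) (c i)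
  have hGvc : ∀ e c, G (vc e c) = cmp ℳ e (G c) := fun e c => by
    simp only [G, Fintype.linearCombination_apply, map_sum]
    exact Finset.sum_congr rfl fun i _ => (cmp_smul_of_mem ℳ e (d i) (c i) (hf i)).symm
  let L' : ℤ := -∑ i, |∑ j, d i j|
  have hinj' : ∀ (t : ℕ) (e : Fin n → ℤ), ∑ i, e i < L' + t → ∀ c, G c = 0 →
      ∃ N : ℕ, ∀ i, (C r : (MvPolynomial (Fin n) R)) ^ N * vc e c i = 0 := by
    intro t
    induction t with
    | zero =>
      intro e he c _
      refine ⟨0, fun i => ?_⟩
      show _ * weightedHomogeneousComponent _ _ _ = 0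
      rw [eq_zero_of_sum_lt, mul_zero]
      have h1 := Finset.single_le_sum (f := fun i => |∑ j, d i j|) (fun j _ => abs_nonneg _) (Finset.mem_univ i)
      have h2 := neg_abs_le (∑ j, d i j)
      simp only [L'] at he h1
      push_cast at he
      omega
    | succ t ih =>
      intro e he c hc
      let k := vc e c
      have hk : G k = 0 := by rw [hGvc, hc, map_zero]
      obtain ⟨M₀, hM₀⟩ := hinj k ((Fintype.linearCombination_apply _ f k).symm.trans hk)
      have hJ : ∀ i, ∃ b : Fin n → (MvPolynomial (Fin n) R), (C r : (MvPolynomial (Fin n) R)) ^ M₀ * k i = ∑ j, (X j : (MvPolynomial (Fin n) R)) • b j := by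
        intro i
        refine mem_sum_X_smul ?_
        rw [Ideal.smul_eq_mul, ← Ideal.one_eq_top, mul_one]
        refine exists_repr_of_constantCoeff _ ?_
        rw [map_mul, map_pow, constantCoeff_C]
        exact hM₀ i
      choose b hb using hJ
      have hkey : (C r : (MvPolynomial (Fin n) R)) ^ (M₀ + N₀) • k = ∑ j, (X j : (MvPolynomial (Fin n) R)) • π (fun i => b i j) := by
        have e1 : (C r : (MvPolynomial (Fin n) R)) ^ M₀ • k = ∑ j, (X j : (MvPolynomial (Fin n) R)) • (fun i => b i j) := funext fun i => by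
          simp only [Pi.smul_apply, Finset.sum_apply, smul_eq_mul] at *
          exact hb i
        have e2 := congrArg π e1
        rw [map_smul, map_sum] at e2
        simp only [map_smul] at e2
        rw [← e2, pow_add, mul_smul]
        congr 1
        simp only [π, LinearMap.sub_apply, LinearMap.smul_apply, LinearMap.id_apply, LinearMap.comp_apply, hk,
          map_zero, sub_zero]

      have hsub : ∀ j, ∃ N : ℕ, ∀ i, (C r : (MvPolynomial (Fin n) R)) ^ N *
          vc (e - Finsupp.weight (wt n) (Finsupp.single j 1)) (π fun i => b i j) i = 0 :=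
        fun j => ih _ (by rw [sum_sub_single]; push_cast at he ⊢; omega) _ (hπG _)
      choose N hN using hsub
      refine ⟨(∑ j, N j) + (M₀ + N₀), fun i => ?_⟩
      have h3 := congrArg (weightedHomogeneousComponent (wt n) (e - d i)) (congrFun hkey i)
      have hidem : weightedHomogeneousComponent (wt n) (e - d i) ((C r : (MvPolynomial (Fin n) R)) ^ (M₀ + N₀) * k i) =
          (C r : (MvPolynomial (Fin n) R)) ^ (M₀ + N₀) * k i := by
        rw [← map_pow, weightedHomogeneousComponent_C_mul]
        congr 1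
        ext s
        simp only [k, vc, coeff_weightedHomogeneousComponent]
        split_ifs <;> rfl
      simp only [Pi.smul_apply, smul_eq_mul, Finset.sum_apply, map_sum] at h3
      rw [hidem] at h3
      rw [pow_add, mul_assoc]
      show _ * ((C r : (MvPolynomial (Fin n) R)) ^ (M₀ + N₀) * k i) = 0
      rw [h3, Finset.mul_sum]
      refine Finset.sum_eq_zero fun j _ => ?_
      have hX : ∀ z : (MvPolynomial (Fin n) R), weightedHomogeneousComponent (wt n) (e - d i) ((X j : (MvPolynomial (Fin n) R)) * z) =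
          (X j : (MvPolynomial (Fin n) R)) * weightedHomogeneousComponent (wt n) (e - Finsupp.weight (wt n) (Finsupp.single j 1) - d i) z := by
        intro z
        ext s
        simp only [coeff_weightedHomogeneousComponent, coeff_X_mul']
        by_cases hj0 : s j = 0
        · simp [hj0]
        · have hj : j ∈ s.support := Finsupp.mem_support_iff.2 hj0
          have hs : Finsupp.single j 1 + (s - Finsupp.single j 1) = s :=
            add_tsub_cancel_of_le (Finsupp.single_le_iff.2 (Nat.one_le_iff_ne_zero.2 (Finsupp.mem_support_iff.1 hj)))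
          have hiff : Finsupp.weight (wt n) s = e - d i ↔
              Finsupp.weight (wt n) (s - Finsupp.single j 1) = e - Finsupp.weight (wt n) (Finsupp.single j 1) - d i := by
            conv_lhs => rw [← hs, map_add]
            constructor <;> intro h
            · rw [sub_right_comm, ← h]; abel
            · rw [h]; abel
          simp only [hiff, if_pos hj]
      rw [hX]
      obtain ⟨k', hk'⟩ := Nat.le.dest (Finset.single_le_sum (fun j _ => Nat.zero_le (N j)) (Finset.mem_univ j))
      rw [← hk', add_comm, pow_add]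
      have := hN j i
      simp only [vc] at this
      linear_combination ((C r : (MvPolynomial (Fin n) R)) ^ k' * (X j : (MvPolynomial (Fin n) R))) * this
  refine ⟨r, hr, m, d, f, hf, fun q => ?_, fun c hc => ?_⟩
  · obtain ⟨c, hc⟩ := hall q
    exact ⟨N₀, c, hc.symm.trans (Fintype.linearCombination_apply (MvPolynomial (Fin n) R) f c)⟩
  · have hc' : G c = 0 := (Fintype.linearCombination_apply (MvPolynomial (Fin n) R) f c).trans hc
    have hcoeff : ∀ (i : Fin m) (s : Fin n →₀ ℕ), ∃ N : ℕ, r ^ N * coeff s (c i) = 0 := by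
      intro i s
      let e := Finsupp.weight (wt n) s + d i
      obtain ⟨N, hN⟩ := hinj' ((∑ j, e j) - L' + 1).toNat e (by omega) c hc'
      refine ⟨N, ?_⟩
      have := congrArg (coeff s) (hN i)
      rwa [← map_pow, coeff_C_mul, coeff_zero, show vc e c i = weightedHomogeneousComponent (wt n) (e - d i) (c i) from rfl,
        coeff_weightedHomogeneousComponent, if_pos (show Finsupp.weight (wt n) s = e - d i by simp only [e]; abel)] at this
    choose N hN using hcoeff
    refine ⟨∑ i, ∑ s ∈ (c i).support, N i s, fun i => MvPolynomial.ext _ _ fun s => ?_⟩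
    rw [← map_pow, coeff_C_mul, coeff_zero]
    by_cases hs : s ∈ (c i).support
    · obtain ⟨k, hk⟩ := Nat.le.dest ((Finset.single_le_sum (fun s _ => Nat.zero_le (N i s)) hs).trans
        (Finset.single_le_sum (f := fun i => ∑ s ∈ (c i).support, N i s) (fun i _ => Nat.zero_le _) (Finset.mem_univ i)))
      rw [← hk, add_comm, pow_add, mul_assoc, hN i s, mul_zero]
    · rw [notMem_support_iff.1 hs, mul_zero]

end

end GrothLib.GrProj2
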